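import Cfsg.Agent.H713.B0R.FiSeven
import Cfsg.Agent.H23.FreeAct

/-!
# `Fi24`: elements of order 21 (helper828)

`inv_of_21` : commuting elements of orders 3 and 7, the second commuting with no transposition, commute with an
involution of the commutator subgroup.
-/

set_option autoImplicit false
set_option maxRecDepth 100000

namespace Cfsg.Agent.H828.RG.Sev

open Cfsg Cfsg.Agent
open Cfsg.Agent.R08.FiTwentyFour (L)
open Cfsg.Agent.H842.Seven Cfsg.Agent.H842.SevenSyl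
open Cfsg.Agent.H713.B0R.FiSeven
open Cfsg.Agent.H842.ThreeCl (X)
open Cfsg.Agent.LThreeFi24.SNine (isPt_s)
open Cfsg.Agent.Fischer.Fi24Rep
open Cfsg.Spor (Fi24)
open Equiv Subgroup

theorem fin24 : Finite Fi24 := Cfsg.Agent.R08.FiTwentyFour.finite_Fi24

theorem cjc {G : Type*} [Group G] {a b : G} (g : G) (h : Commute a b) : Commute (g * a * g⁻¹) (g * b * g⁻¹) :=
  h.map (MulAut.conj g).toMonoidHom

/-! ### Permutations of order 3 of seven letters -/

theorem cyc3 {σ : Perm (Fin 7)} (h3 : σ ^ 3 = 1) (h1 : σ ≠ 1) :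
    ∃ n : ℕ, σ.cycleType = Multiset.replicate (n + 1) 3 ∧ σ.support.card = (n + 1) * 3 := by
  have h3' : Fact (Nat.Prime 3) := ⟨by norm_num⟩
  have ho : orderOf σ = 3 := orderOf_eq_prime h3 h1
  obtain ⟨n, hn⟩ := Equiv.Perm.cycleType_prime_order (σ := σ) (by rw [ho]; norm_num)
  rw [ho] at hn
  refine ⟨n, hn, ?_⟩
  rw [← Equiv.Perm.sum_cycleType, hn, Multiset.sum_replicate, smul_eq_mul]

theorem conj3 {σ ρ : Perm (Fin 7)} (h3 : σ ^ 3 = 1) (h1 : σ ≠ 1) (k3 : ρ ^ 3 = 1) (k1 : ρ ≠ 1)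
    (h : σ.support.card = ρ.support.card) : ∃ π : Perm (Fin 7), π * σ * π⁻¹ = ρ := by
  obtain ⟨n, hn, hn'⟩ := cyc3 h3 h1
  obtain ⟨m, hm, hm'⟩ := cyc3 k3 k1
  have e : n = m := by omega
  subst e
  exact isConj_iff.1 (Equiv.Perm.isConj_iff_cycleType_eq.2 (hn.trans hm.symm))

theorem cases3 {σ : Perm (Fin 7)} (h3 : σ ^ 3 = 1) (h1 : σ ≠ 1) :
    ∃ π : Perm (Fin 7), π * σ * π⁻¹ = swap 0 1 * swap 1 2 ∨ π * σ * π⁻¹ = τ := by
  obtain ⟨n, hn, hn'⟩ := cyc3 h3 h1
  have h7 : σ.support.card ≤ 7 := by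
    have := Finset.card_le_univ σ.support
    simpa using this
  have hn2 : n = 0 ∨ n = 1 := by omega
  rcases hn2 with rfl | rfl
  · obtain ⟨π, h⟩ := conj3 h3 h1 (ρ := swap 0 1 * swap 1 2) (by decide) (by decide) (hn'.trans (by decide))
    exact ⟨π, Or.inl h⟩
  · obtain ⟨π, h⟩ := conj3 h3 h1 (ρ := τ) (by decide) (by decide) (hn'.trans (by decide))
    exact ⟨π, Or.inr h⟩

/-! ### The class of `c` -/

theorem ctc : CT c := ⟨1, by group⟩

noncomputable def r0 : Fi24 := t6 ^ 2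

theorem r0_pow : r0 ^ 3 = 1 := by rw [r0, ← pow_mul]; exact t6_pow

theorem r0_c : r0 * c = c * r0 := by
  rw [c_eq, r0]
  exact ((t6_Psi _).pow_left 2).eq

theorem r0_y7 : r0 * y7 * r0⁻¹ = y7 ^ 9 := by
  have h1 : r0 * y7 * r0⁻¹ = t6 * (t6 * y7 * t6⁻¹) * t6⁻¹ := by
    rw [r0, pow_two]; group
  rw [h1, t6_y7, ← conj_pow, t6_y7, ← pow_mul]

theorem y7_order : orderOf y7 = 7 := oy7

theorem c_order : orderOf c = 7 := ctc.order

theorem r0_ne : r0 ≠ 1 := by
  intro h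
  have h1 := r0_y7
  rw [h] at h1
  have h2 : y7 ^ 8 = 1 := by
    have h3 : y7 ^ 8 * y7 = 1 * y7 := by
      rw [one_mul, ← pow_succ, ← h1]; group
    exact mul_right_cancel h3
  have h3 := orderOf_dvd_of_pow_eq_one h2
  rw [y7_order] at h3
  omega

theorem cl_r0 : Cl 1 r0 := ctc.cl (show Commute c r0 from r0_c.symm) r0_pow r0_ne

theorem Cl_conj {i : Fin 5} {u : Fi24} (h : Cl i u) (g : Fi24) : Cl i (g * u * g⁻¹) := by
  obtain ⟨k, hk⟩ := h
  refine ⟨k * g⁻¹, ?_⟩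
  have e : k * g⁻¹ * (g * u * g⁻¹) * (k * g⁻¹)⁻¹ = k * u * k⁻¹ := by group
  rwa [e]

/-- an element of the class 1 does not commute with `y7` -/
theorem not_y7 {w : Fi24} (hw : Cl 1 w) (h3 : w ^ 3 = 1) (h1 : w ≠ 1) (hc : Commute w y7) : False := by
  obtain ⟨i, σ, h⟩ := exists_of_comm7 hc.eq
  have h4 : Commute (y7 ^ i) (Psi σ) := ((y7_Psi σ).symm).pow_left i
  have e1 : w = w ^ 28 := by
    rw [show 28 = 3 * 9 + 1 by norm_num, pow_succ, pow_mul, h3, one_pow, one_mul]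
  have h2 : w = Psi (σ ^ 28) := by
    rw [e1, h, h4.mul_pow, ← pow_mul, show i * 28 = 7 * (i * 4) by ring, pow_mul, y7_pow,
      one_pow, one_mul, map_pow]
  set ρ := σ ^ 28 with hρ
  have k3 : ρ ^ 3 = 1 := Psi_injective (by rw [map_pow, ← h2, h3, map_one])
  have k1 : ρ ≠ 1 := fun h => h1 (by rw [h2, h, map_one])
  obtain ⟨π, h5 | h5⟩ := cases3 k3 k1
  · have h6 : Psi π * w * (Psi π)⁻¹ = X 0 := by
      rw [h2, ← map_inv, ← map_mul, ← map_mul, h5, map_mul]
      have e0 : Psi (swap 0 1) = gen .l := Psi_swap 0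
      have e1 : Psi (swap 1 2) = gen .k := Psi_swap 1
      rw [e0, e1]
      rfl
    have h7 := (Cl_conj hw (Psi π)).cM_eq
    rw [h6, cM0, cM1] at h7
    exact absurd h7 (by norm_num)
  · have h6 : Psi π * w * (Psi π)⁻¹ = w1 := by
      rw [h2, ← map_inv, ← map_mul, ← map_mul, h5]
      rfl
    exact not_cl1 (h6 ▸ Cl_conj hw (Psi π))

/-- an element of order 7 commuting with an element of the class 1 commutes with no transposition -/
theorem free_of_cl {s w d : Fi24} (hs : orderOf s = 7) (hc : Commute s w) (hw : Cl 1 w) (h3 : w ^ 3 = 1) (h1 : w ≠ 1)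
    (hd : d ∈ L) : ¬ Commute s d := by
  intro hsd
  obtain ⟨g, hg⟩ := cases7 (X := zpowers s) (by rw [Nat.card_zpowers, hs])
  have key : ∀ z : Fi24, (zpowers s).map (MulAut.conj g).toMonoidHom = zpowers z → ∀ e : Fi24, Commute s e →
      Commute z (g * e * g⁻¹) := by
    intro z hz e he
    have h1 : z ∈ (zpowers s).map (MulAut.conj g).toMonoidHom := by rw [hz]; exact mem_zpowers z
    obtain ⟨_, ⟨m, rfl⟩, h2⟩ := h1
    have h3 : (g * s * g⁻¹) ^ m = z := by rw [conj_zpow]; exact h2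
    rw [← h3]
    exact (cjc g he).zpow_left m
  rcases hg with hg | hg
  · refine not_y7 (Cl_conj hw g) ?_ ?_ (key _ hg _ hc).symm
    · rw [conj_pow, h3]; group
    · intro h
      apply h1
      have : w = g⁻¹ * (g * w * g⁻¹) * g := by group
      rw [this, h]; group
  · exact not_comm_c (Cfsg.Agent.R08.FiTwentyFour.conj hd g) (key _ hg _ hsd).eq

/-! ### The Sylow 7-subgroups of the centralizer -/

/-- the transpositions commuting with `w` -/
abbrev TX (w : Fi24) : Type := {d : Fi24 // d ∈ L ∧ Commute w d}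

theorem card_TX {w : Fi24} (hw : Cl 1 w) : Nat.card (TX w) = 378 := by
  have := fin24
  have h3 : (Mv w ∪ {d | d ∈ L ∧ Commute w d}).ncard = (Mv w).ncard + ({d | d ∈ L ∧ Commute w d} : Set Fi24).ncard :=
    Set.ncard_union_eq (Set.disjoint_left.2 fun d h4 h5 => h4.2 h5.2)
  have h4 : Mv w ∪ {d | d ∈ L ∧ Commute w d} = L := by
    ext d
    constructor
    · rintro (h | h)
      · exact h.1
      · exact h.1
    · intro h
      by_cases hc : Commute w d
      · exact Or.inr ⟨h, hc⟩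
      · exact Or.inl ⟨h, hc⟩
  rw [h4, Cfsg.Agent.R08.FiTwentyFour.ncard_L] at h3
  have h5 : (Mv w).ncard = 306558 := hw.cM_eq.trans cM1
  rw [h5] at h3
  show ({d | d ∈ L ∧ Commute w d} : Set Fi24).ncard = 378
  omega

theorem not_49' {w : Fi24} (hw : Cl 1 w) (h3 : w ^ 3 = 1) (h1 : w ≠ 1) :
    ¬ 7 ^ 2 ∣ Nat.card ↥(centralizer ({w} : Set Fi24)) := by
  intro h
  have := fin24
  have h7 : Fact (Nat.Prime 7) := ⟨by norm_num⟩
  obtain ⟨K, hK⟩ := Sylow.exists_subgroup_card_pow_prime 7 h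
  have hcw : ∀ x : K, Commute (((x : ↥(centralizer ({w} : Set Fi24))) : Fi24)) w := fun x =>
    mem_centralizer_singleton_iff.1 (x : ↥(centralizer ({w} : Set Fi24))).2
  have hN : ∀ (x : K) (d : Fi24), d ∈ L ∧ Commute w d →
      (((x : ↥(centralizer ({w} : Set Fi24))) : Fi24)) * d * (((x : ↥(centralizer ({w} : Set Fi24))) : Fi24))⁻¹ ∈ L ∧
      Commute w ((((x : ↥(centralizer ({w} : Set Fi24))) : Fi24)) * d * (((x : ↥(centralizer ({w} : Set Fi24))) : Fi24))⁻¹) :=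
    fun x d hd => ⟨Cfsg.Agent.R08.FiTwentyFour.conj hd.1 _,
      (((hcw x).symm.mul_right hd.2).mul_right (hcw x).symm.inv_right)⟩
  let _ : MulAction K (TX w) :=
    { smul := fun x d => ⟨_, hN x d d.2⟩
      one_smul := fun d => Subtype.ext (by show (1 : Fi24) * d * (1 : Fi24)⁻¹ = d; group)
      mul_smul := fun x y d => Subtype.ext (by
        show (((x * y : K) : ↥(centralizer ({w} : Set Fi24))) : Fi24) * d * (((x * y : K) : ↥(centralizer ({w} : Set Fi24))) : Fi24)⁻¹ =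
          ((x : ↥(centralizer ({w} : Set Fi24))) : Fi24) * (((y : ↥(centralizer ({w} : Set Fi24))) : Fi24) * d *
            ((y : ↥(centralizer ({w} : Set Fi24))) : Fi24)⁻¹) * ((x : ↥(centralizer ({w} : Set Fi24))) : Fi24)⁻¹
        rw [Subgroup.coe_mul, Subgroup.coe_mul]; group) }
  have hfK : Finite K := inferInstance
  have h2 : Nat.card K ∣ Nat.card (TX w) := by
    apply Cfsg.Agent.H23.FreeAct.card_dvd_of_free
    intro x d hxd
    by_contra hx
    have h4 : Commute ((x : ↥(centralizer ({w} : Set Fi24))) : Fi24) (d : Fi24) :=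
      mul_inv_eq_iff_eq_mul.1 (congrArg Subtype.val hxd)
    have h5 : orderOf x ∣ 7 ^ 2 := by rw [← hK]; exact orderOf_dvd_natCard x
    obtain ⟨n, hn, h6⟩ := (Nat.dvd_prime_pow h7.out).1 h5
    have hn0 : n ≠ 0 := by
      rintro rfl
      rw [pow_zero, orderOf_eq_one_iff] at h6
      exact hx h6
    have h8 : 7 ∣ orderOf x := by rw [h6]; exact dvd_pow_self 7 hn0
    have h9 : orderOf (x ^ (orderOf x / 7)) = 7 := orderOf_pow_orderOf_div (orderOf_pos x).ne' h8
    have h10 : orderOf (((x : ↥(centralizer ({w} : Set Fi24))) : Fi24) ^ (orderOf x / 7)) = 7 := by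
      have e : ((x ^ (orderOf x / 7) : K) : Fi24) = ((x : ↥(centralizer ({w} : Set Fi24))) : Fi24) ^ (orderOf x / 7) := by
        rw [Subgroup.coe_pow, Subgroup.coe_pow]
      rw [← e, Subgroup.orderOf_coe, Subgroup.orderOf_coe, h9]
    exact free_of_cl h10 ((hcw x).pow_left _) hw h3 h1 d.2.1 (h4.pow_left _)
  rw [hK, card_TX hw] at h2
  exact absurd h2 (by norm_num)

theorem fac7 : (Nat.card ↥(centralizer ({r0} : Set Fi24))).factorization 7 = 1 := by
  have := fin24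
  have h7 : Fact (Nat.Prime 7) := ⟨by norm_num⟩
  have hc : c ∈ centralizer ({r0} : Set Fi24) := mem_centralizer_singleton_iff.2 r0_c.symm
  have h0 : Nat.card ↥(centralizer ({r0} : Set Fi24)) ≠ 0 := Nat.card_pos.ne'
  have h1 : 7 ∣ Nat.card ↥(centralizer ({r0} : Set Fi24)) := by
    have := Subgroup.orderOf_dvd_natCard _ hc
    rwa [c_order] at this
  have h2 := (Nat.Prime.pow_dvd_iff_le_factorization h7.out h0 (k := 1)).1 (by rw [pow_one]; exact h1)
  have h3 : ¬ 2 ≤ (Nat.card ↥(centralizer ({r0} : Set Fi24))).factorization 7 := fun h =>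
    not_49' cl_r0 r0_pow r0_ne ((Nat.Prime.pow_dvd_iff_le_factorization h7.out h0).2 h)
  omega

theorem conj_of_r0 {s : Fi24} (hs : orderOf s = 7) (hc : Commute s r0) :
    ∃ g : Fi24, Commute g r0 ∧ g * s * g⁻¹ ∈ zpowers c := by
  have := fin24
  have h7 : Fact (Nat.Prime 7) := ⟨by norm_num⟩
  have hy : c ∈ centralizer ({r0} : Set Fi24) := mem_centralizer_singleton_iff.2 r0_c.symm
  have hs' : s ∈ centralizer ({r0} : Set Fi24) := mem_centralizer_singleton_iff.2 hc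
  obtain ⟨⟨k, hk⟩, h1⟩ := conj_of_card fac7 (x := ⟨s, hs'⟩) (y := ⟨c, hy⟩)
    (by rw [Subgroup.orderOf_mk]; exact hs) (by rw [Subgroup.orderOf_mk]; exact c_order)
  obtain ⟨i, hi⟩ := h1
  have h2 : c ^ i = k * s * k⁻¹ := congrArg Subtype.val hi
  exact ⟨k, mem_centralizer_singleton_iff.1 hk, i, h2⟩

/-! ### The involution -/

theorem sgn_t6 : t6 ∈ commutator Fi24 := by
  rw [Cfsg.Agent.R08.FiTwentyFour.mem_commutator_iff]
  have hg : ∀ x, Cfsg.Agent.Fischer.Fi24Final.sgn (gen x) = -1 := fun x =>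
    Cfsg.Agent.R08.FiTwentyFour.sgn_L (Cfsg.Agent.R08.FiTwentyFour.gen_mem_L x)
  have h7 : Cfsg.Agent.Fischer.Fi24Final.sgn (Cfsg.Agent.LThreeFi24.SNine.s 7) = -1 :=
    Cfsg.Agent.R08.FiTwentyFour.sgn_L (isPt_s 7).mem
  show Cfsg.Agent.Fischer.Fi24Final.sgn (t0 * Cfsg.Agent.LThreeFi24.SNine.s 7) = 1
  rw [t0_eq]
  simp only [map_mul, hg, h7]
  decide

theorem sq_t63 : t6 ^ 3 * t6 ^ 3 = 1 := by rw [← pow_add]; exact t6_pow

theorem t63_ne : t6 ^ 3 ≠ 1 := by
  intro h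
  have h1 : t6 ^ 3 * y7 * (t6 ^ 3)⁻¹ = y7 ^ 27 := by
    have e : t6 ^ 3 * y7 * (t6 ^ 3)⁻¹ = t6 * (t6 * (t6 * y7 * t6⁻¹) * t6⁻¹) * t6⁻¹ := by
      rw [pow_succ, pow_two]; group
    rw [e, t6_y7, ← conj_pow, t6_y7, ← pow_mul, ← conj_pow, t6_y7, ← pow_mul]
  rw [h] at h1
  have h2 : y7 ^ 26 = 1 := by
    have h3 : y7 ^ 26 * y7 = 1 * y7 := by
      rw [one_mul, ← pow_succ, ← h1]; group
    exact mul_right_cancel h3
  have h3 := orderOf_dvd_of_pow_eq_one h2
  rw [y7_order] at h3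
  omega

theorem t6_c : Commute t6 c := by
  rw [c_eq]
  exact t6_Psi _

/-- **commuting elements of orders 3 and 7, the second commuting with no transposition** -/
theorem inv_of_21 (x s : Fi24) (hx : orderOf x = 3) (hs : orderOf s = 7) (hc : Commute x s)
    (hT : ∀ d ∈ Cfsg.Agent.R08.FiTwentyFour.L, ¬ Commute s d) :
    ∃ z, orderOf z = 2 ∧ z ∈ commutator Fi24 ∧ Commute z x ∧ Commute z s := by
  obtain ⟨g, hg⟩ := cases7 (X := zpowers s) (by rw [Nat.card_zpowers, hs])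
  have key : ∀ z : Fi24, (zpowers s).map (MulAut.conj g).toMonoidHom = zpowers z → ∀ e : Fi24, Commute s e →
      Commute z (g * e * g⁻¹) := by
    intro z hz e he
    have h1 : z ∈ (zpowers s).map (MulAut.conj g).toMonoidHom := by rw [hz]; exact mem_zpowers z
    obtain ⟨_, ⟨m, rfl⟩, h2⟩ := h1
    have h3 : (g * s * g⁻¹) ^ m = z := by rw [conj_zpow]; exact h2
    rw [← h3]
    exact (cjc g he).zpow_left m
  rcases hg with hg | hg
  · exfalso
    have h1 : g * s * g⁻¹ ∈ zpowers y7 := by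
      rw [← hg]
      exact ⟨s, mem_zpowers s, rfl⟩
    obtain ⟨m, hm⟩ := h1
    have hm' : y7 ^ m = g * s * g⁻¹ := hm
    have h2 : Commute (g * s * g⁻¹) (t 0) := by
      rw [← hm']
      exact (show Commute y7 (t 0) from y7_t 0).zpow_left m
    have h3 := cjc g⁻¹ h2
    have e1 : g⁻¹ * (g * s * g⁻¹) * g⁻¹⁻¹ = s := by group
    rw [e1] at h3
    exact hT _ (Cfsg.Agent.R08.FiTwentyFour.conj (t_mem 0) g⁻¹) h3
  · have hx3 : x ^ 3 = 1 := by rw [← hx]; exact pow_orderOf_eq_one x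
    have hx1 : x ≠ 1 := by
      rintro rfl
      rw [orderOf_one] at hx
      omega
    have hk3 : (g * x * g⁻¹) ^ 3 = 1 := by rw [conj_pow, hx3]; group
    have hk1 : g * x * g⁻¹ ≠ 1 := by
      intro h
      apply hx1
      have : x = g⁻¹ * (g * x * g⁻¹) * g := by group
      rw [this, h]; group
    have hcl : Cl 1 (g * x * g⁻¹) := ctc.cl (key _ hg _ hc.symm) hk3 hk1
    obtain ⟨h, hh⟩ := hcl.conj cl_r0
    have hs2 : orderOf (h * (g * s * g⁻¹) * h⁻¹) = 7 := by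
      rw [← hs]
      have e1 : orderOf (h * (g * s * g⁻¹) * h⁻¹) = orderOf (g * s * g⁻¹) := MulEquiv.orderOf_eq (MulAut.conj h) _
      rw [e1]
      exact MulEquiv.orderOf_eq (MulAut.conj g) _
    have hc2 : Commute (h * (g * s * g⁻¹) * h⁻¹) r0 := by
      have h1 := cjc h (cjc g hc.symm)
      rcases hh with hh | hh
      · rwa [hh] at h1
      · rw [hh] at h1
        have := h1.inv_right
        rwa [inv_inv] at this
    obtain ⟨k, hkr, hks⟩ := conj_of_r0 hs2 hc2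
    set G := k * h * g with hG
    have hGs : G * s * G⁻¹ ∈ zpowers c := by
      have e : G * s * G⁻¹ = k * (h * (g * s * g⁻¹) * h⁻¹) * k⁻¹ := by rw [hG]; group
      rw [e]; exact hks
    have hGx : G * x * G⁻¹ = r0 ∨ G * x * G⁻¹ = r0⁻¹ := by
      have e : G * x * G⁻¹ = k * (h * (g * x * g⁻¹) * h⁻¹) * k⁻¹ := by rw [hG]; group
      rw [e]
      rcases hh with hh | hh
      · left
        rw [hh, hkr.eq]; group
      · right
        rw [hh, hkr.inv_right.eq]; group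
    have hzs : Commute (t6 ^ 3) (G * s * G⁻¹) := by
      obtain ⟨m, hm⟩ := hGs
      have hm' : c ^ m = G * s * G⁻¹ := hm
      rw [← hm']
      exact (t6_c.pow_left 3).zpow_right m
    have hzx : Commute (t6 ^ 3) (G * x * G⁻¹) := by
      have h1 : Commute (t6 ^ 3) r0 := (Commute.refl t6).pow_pow 3 2
      rcases hGx with e | e
      · rw [e]; exact h1
      · rw [e]; exact h1.inv_right
    have back : ∀ a : Fi24, Commute (t6 ^ 3) (G * a * G⁻¹) → Commute (G⁻¹ * t6 ^ 3 * G) a := by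
      intro a ha
      have h1 := cjc G⁻¹ ha
      have e1 : G⁻¹ * (G * a * G⁻¹) * G⁻¹⁻¹ = a := by group
      rwa [e1, inv_inv] at h1
    refine ⟨G⁻¹ * t6 ^ 3 * G, ?_, ?_, back x hzx, back s hzs⟩
    · have h2 : Fact (Nat.Prime 2) := ⟨by norm_num⟩
      refine orderOf_eq_prime ?_ ?_
      · have e : (G⁻¹ * t6 ^ 3 * G) ^ 2 = G⁻¹ * (t6 ^ 3 * t6 ^ 3) * G := by rw [pow_two]; group
        rw [e, sq_t63]; group
      · intro e
        apply t63_ne
        have : t6 ^ 3 = G * (G⁻¹ * t6 ^ 3 * G) * G⁻¹ := by group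
        rw [this, e]; group
    · have h1 : t6 ^ 3 ∈ commutator Fi24 := pow_mem sgn_t6 3
      have hn : (commutator Fi24).Normal := inferInstance
      have h2 := hn.conj_mem _ h1 G⁻¹
      rwa [inv_inv] at h2

end Cfsg.Agent.H828.RG.Sev
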